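import Cfsg.Agent.ThCert.ABoundCert.BClaims
set_option autoImplicit false
set_option maxRecDepth 100000

/-! Checks of the edges of the table of level B. -/

namespace CfsgLib.ThCert.ABoundCert.B

open CfsgLib.CosetEnum

theorem table0 : Log.checkTable F iv 112 36 5 36 0
    0x98000ce000c900044000d200092000d100042000d4000ae0008e00040000d60009e000cb00099000d0000c70003e000d300096000cf0003c00045000af00093000a60003a000d5000ac0009000038000430009f000b10008f00036000d70009c000c50003400041000d9000a0000dd00097000a7000320003f000ad00094000300003d000c3000b0000910002e0003b0009d000ab0002c0003900067000a10006f0002a000370008d0009a000bf0003500028000db000a2000df000950002600033000c1000aa000240003100066000cd0006e000220002f000a40009b000750002d0002000065000a30006d0002b000290008b0001e000bd0001c00027000a8000bb00074000250001a00064000b90006c000180005b000a500089000710002300021000160001f000730001400059000a9000b4000700001d0001b00012000b700072000190001000017000870006b0000e000550007b000b500083000150000c00013000b20006a000570001100069000850000a0000f0000800079000b300081000530000d00063000060000b000510000900004000070007d0004f0000200005000610007f00000000030005d0005f00077000010004d0004b0004900047 = true := by decide +kernel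

end CfsgLib.ThCert.ABoundCert.B
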