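import Cfsg.Agent.ThCert.ABoundCert.BSteps0
import Cfsg.Agent.ThCert.ABoundCert.BTable0
set_option autoImplicit false
set_option maxRecDepth 100000

/-! The bound from the log of level B. -/

namespace CfsgLib.ThCert.ABoundCert.B

open CfsgLib.CosetEnum

variable {G : Type*} [Group G] (g : ℕ → G) (H : Subgroup G)

/-- The index bound. -/
theorem bound [Finite H] (hiv : ∀ x, g (iv x) = (g x)⁻¹) (he : g 9 = 1)
    (hrel : ∀ r, r < 37 → prodw g (wd r) = 1) (hsub : ∀ r, r < 41 → prodw g (wd r) ∈ H) :
    Finite (Subgroup.closure (g '' {x | x < 5})) ∧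
      Nat.card (Subgroup.closure (g '' {x | x < 5})) ≤ 36 * Nat.card H := by
  have S0 : Log.Steps g H F 36 0 112 := Log.checkBlock_sound hiv he hrel hsub _ _ _ step0
  have hF := Log.Steps.holds g H F 36 S0
  have T0 : Log.Closed g H F 36 36 5 0 36 := Log.checkTable_sound hiv hF _ _ _ table0
  refine Log.finite_and_card_le hiv (by norm_num) ?_ T0
  intro x hx
  interval_cases x <;> decide

end CfsgLib.ThCert.ABoundCert.B
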