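import Cfsg.Agent.ThCert.ABoundCert.CSteps0
import Cfsg.Agent.ThCert.ABoundCert.CSteps1
import Cfsg.Agent.ThCert.ABoundCert.CSteps2
import Cfsg.Agent.ThCert.ABoundCert.CSteps3
import Cfsg.Agent.ThCert.ABoundCert.CSteps4
import Cfsg.Agent.ThCert.ABoundCert.CSteps5
import Cfsg.Agent.ThCert.ABoundCert.CTable0
import Cfsg.Agent.ThCert.ABoundCert.CTable1
import Cfsg.Agent.ThCert.ABoundCert.CTable2
set_option autoImplicit false
set_option maxRecDepth 100000

/-! The bound from the log of level C. -/

namespace CfsgLib.ThCert.ABoundCert.C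

open CfsgLib.CosetEnum

variable {G : Type*} [Group G] (g : ℕ → G) (H : Subgroup G)

/-- The index bound. -/
theorem bound [Finite H] (hiv : ∀ x, g (iv x) = (g x)⁻¹) (he : g 9 = 1)
    (hrel : ∀ r, r < 37 → prodw g (wd r) = 1) (hsub : ∀ r, r < 42 → prodw g (wd r) ∈ H) :
    Finite (Subgroup.closure (g '' {x | x < 7})) ∧
      Nat.card (Subgroup.closure (g '' {x | x < 7})) ≤ 17472 * Nat.card H := by
  have S0 : Log.Steps g H F 19661 0 1024 := Log.checkBlock_sound hiv he hrel hsub _ _ _ step0
  have S1 : Log.Steps g H F 19661 0 2048 :=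
    Log.Steps.join g H F 19661 S0 (Log.checkBlock_sound hiv he hrel hsub _ _ _ step1)
  have S2 : Log.Steps g H F 19661 0 3072 :=
    Log.Steps.join g H F 19661 S1 (Log.checkBlock_sound hiv he hrel hsub _ _ _ step2)
  have S3 : Log.Steps g H F 19661 0 4096 :=
    Log.Steps.join g H F 19661 S2 (Log.checkBlock_sound hiv he hrel hsub _ _ _ step3)
  have S4 : Log.Steps g H F 19661 0 5120 :=
    Log.Steps.join g H F 19661 S3 (Log.checkBlock_sound hiv he hrel hsub _ _ _ step4)
  have S5 : Log.Steps g H F 19661 0 6144 :=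
    Log.Steps.join g H F 19661 S4 (Log.checkBlock_sound hiv he hrel hsub _ _ _ step5)
  have S6 : Log.Steps g H F 19661 0 7168 :=
    Log.Steps.join g H F 19661 S5 (Log.checkBlock_sound hiv he hrel hsub _ _ _ step6)
  have S7 : Log.Steps g H F 19661 0 8192 :=
    Log.Steps.join g H F 19661 S6 (Log.checkBlock_sound hiv he hrel hsub _ _ _ step7)
  have S8 : Log.Steps g H F 19661 0 9216 :=
    Log.Steps.join g H F 19661 S7 (Log.checkBlock_sound hiv he hrel hsub _ _ _ step8)
  have S9 : Log.Steps g H F 19661 0 10240 :=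
    Log.Steps.join g H F 19661 S8 (Log.checkBlock_sound hiv he hrel hsub _ _ _ step9)
  have S10 : Log.Steps g H F 19661 0 11264 :=
    Log.Steps.join g H F 19661 S9 (Log.checkBlock_sound hiv he hrel hsub _ _ _ step10)
  have S11 : Log.Steps g H F 19661 0 12288 :=
    Log.Steps.join g H F 19661 S10 (Log.checkBlock_sound hiv he hrel hsub _ _ _ step11)
  have S12 : Log.Steps g H F 19661 0 13312 :=
    Log.Steps.join g H F 19661 S11 (Log.checkBlock_sound hiv he hrel hsub _ _ _ step12)
  have S13 : Log.Steps g H F 19661 0 14336 :=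
    Log.Steps.join g H F 19661 S12 (Log.checkBlock_sound hiv he hrel hsub _ _ _ step13)
  have S14 : Log.Steps g H F 19661 0 15360 :=
    Log.Steps.join g H F 19661 S13 (Log.checkBlock_sound hiv he hrel hsub _ _ _ step14)
  have S15 : Log.Steps g H F 19661 0 16384 :=
    Log.Steps.join g H F 19661 S14 (Log.checkBlock_sound hiv he hrel hsub _ _ _ step15)
  have S16 : Log.Steps g H F 19661 0 17408 :=
    Log.Steps.join g H F 19661 S15 (Log.checkBlock_sound hiv he hrel hsub _ _ _ step16)
  have S17 : Log.Steps g H F 19661 0 18432 :=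
    Log.Steps.join g H F 19661 S16 (Log.checkBlock_sound hiv he hrel hsub _ _ _ step17)
  have S18 : Log.Steps g H F 19661 0 19456 :=
    Log.Steps.join g H F 19661 S17 (Log.checkBlock_sound hiv he hrel hsub _ _ _ step18)
  have S19 : Log.Steps g H F 19661 0 20480 :=
    Log.Steps.join g H F 19661 S18 (Log.checkBlock_sound hiv he hrel hsub _ _ _ step19)
  have S20 : Log.Steps g H F 19661 0 21504 :=
    Log.Steps.join g H F 19661 S19 (Log.checkBlock_sound hiv he hrel hsub _ _ _ step20)
  have S21 : Log.Steps g H F 19661 0 22528 :=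
    Log.Steps.join g H F 19661 S20 (Log.checkBlock_sound hiv he hrel hsub _ _ _ step21)
  have S22 : Log.Steps g H F 19661 0 23552 :=
    Log.Steps.join g H F 19661 S21 (Log.checkBlock_sound hiv he hrel hsub _ _ _ step22)
  have S23 : Log.Steps g H F 19661 0 24576 :=
    Log.Steps.join g H F 19661 S22 (Log.checkBlock_sound hiv he hrel hsub _ _ _ step23)
  have S24 : Log.Steps g H F 19661 0 25600 :=
    Log.Steps.join g H F 19661 S23 (Log.checkBlock_sound hiv he hrel hsub _ _ _ step24)
  have S25 : Log.Steps g H F 19661 0 26624 :=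
    Log.Steps.join g H F 19661 S24 (Log.checkBlock_sound hiv he hrel hsub _ _ _ step25)
  have S26 : Log.Steps g H F 19661 0 27648 :=
    Log.Steps.join g H F 19661 S25 (Log.checkBlock_sound hiv he hrel hsub _ _ _ step26)
  have S27 : Log.Steps g H F 19661 0 28672 :=
    Log.Steps.join g H F 19661 S26 (Log.checkBlock_sound hiv he hrel hsub _ _ _ step27)
  have S28 : Log.Steps g H F 19661 0 29696 :=
    Log.Steps.join g H F 19661 S27 (Log.checkBlock_sound hiv he hrel hsub _ _ _ step28)
  have S29 : Log.Steps g H F 19661 0 30720 :=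
    Log.Steps.join g H F 19661 S28 (Log.checkBlock_sound hiv he hrel hsub _ _ _ step29)
  have S30 : Log.Steps g H F 19661 0 31744 :=
    Log.Steps.join g H F 19661 S29 (Log.checkBlock_sound hiv he hrel hsub _ _ _ step30)
  have S31 : Log.Steps g H F 19661 0 32768 :=
    Log.Steps.join g H F 19661 S30 (Log.checkBlock_sound hiv he hrel hsub _ _ _ step31)
  have S32 : Log.Steps g H F 19661 0 33792 :=
    Log.Steps.join g H F 19661 S31 (Log.checkBlock_sound hiv he hrel hsub _ _ _ step32)
  have S33 : Log.Steps g H F 19661 0 34816 :=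
    Log.Steps.join g H F 19661 S32 (Log.checkBlock_sound hiv he hrel hsub _ _ _ step33)
  have S34 : Log.Steps g H F 19661 0 35840 :=
    Log.Steps.join g H F 19661 S33 (Log.checkBlock_sound hiv he hrel hsub _ _ _ step34)
  have S35 : Log.Steps g H F 19661 0 36864 :=
    Log.Steps.join g H F 19661 S34 (Log.checkBlock_sound hiv he hrel hsub _ _ _ step35)
  have S36 : Log.Steps g H F 19661 0 37888 :=
    Log.Steps.join g H F 19661 S35 (Log.checkBlock_sound hiv he hrel hsub _ _ _ step36)
  have S37 : Log.Steps g H F 19661 0 38912 :=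
    Log.Steps.join g H F 19661 S36 (Log.checkBlock_sound hiv he hrel hsub _ _ _ step37)
  have S38 : Log.Steps g H F 19661 0 39936 :=
    Log.Steps.join g H F 19661 S37 (Log.checkBlock_sound hiv he hrel hsub _ _ _ step38)
  have S39 : Log.Steps g H F 19661 0 40960 :=
    Log.Steps.join g H F 19661 S38 (Log.checkBlock_sound hiv he hrel hsub _ _ _ step39)
  have S40 : Log.Steps g H F 19661 0 41984 :=
    Log.Steps.join g H F 19661 S39 (Log.checkBlock_sound hiv he hrel hsub _ _ _ step40)
  have S41 : Log.Steps g H F 19661 0 43008 :=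
    Log.Steps.join g H F 19661 S40 (Log.checkBlock_sound hiv he hrel hsub _ _ _ step41)
  have S42 : Log.Steps g H F 19661 0 44032 :=
    Log.Steps.join g H F 19661 S41 (Log.checkBlock_sound hiv he hrel hsub _ _ _ step42)
  have S43 : Log.Steps g H F 19661 0 45056 :=
    Log.Steps.join g H F 19661 S42 (Log.checkBlock_sound hiv he hrel hsub _ _ _ step43)
  have S44 : Log.Steps g H F 19661 0 46080 :=
    Log.Steps.join g H F 19661 S43 (Log.checkBlock_sound hiv he hrel hsub _ _ _ step44)
  have S45 : Log.Steps g H F 19661 0 47104 :=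
    Log.Steps.join g H F 19661 S44 (Log.checkBlock_sound hiv he hrel hsub _ _ _ step45)
  have S46 : Log.Steps g H F 19661 0 48128 :=
    Log.Steps.join g H F 19661 S45 (Log.checkBlock_sound hiv he hrel hsub _ _ _ step46)
  have S47 : Log.Steps g H F 19661 0 49152 :=
    Log.Steps.join g H F 19661 S46 (Log.checkBlock_sound hiv he hrel hsub _ _ _ step47)
  have S48 : Log.Steps g H F 19661 0 50176 :=
    Log.Steps.join g H F 19661 S47 (Log.checkBlock_sound hiv he hrel hsub _ _ _ step48)
  have S49 : Log.Steps g H F 19661 0 51200 :=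
    Log.Steps.join g H F 19661 S48 (Log.checkBlock_sound hiv he hrel hsub _ _ _ step49)
  have S50 : Log.Steps g H F 19661 0 52224 :=
    Log.Steps.join g H F 19661 S49 (Log.checkBlock_sound hiv he hrel hsub _ _ _ step50)
  have S51 : Log.Steps g H F 19661 0 53248 :=
    Log.Steps.join g H F 19661 S50 (Log.checkBlock_sound hiv he hrel hsub _ _ _ step51)
  have S52 : Log.Steps g H F 19661 0 54272 :=
    Log.Steps.join g H F 19661 S51 (Log.checkBlock_sound hiv he hrel hsub _ _ _ step52)
  have S53 : Log.Steps g H F 19661 0 55296 :=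
    Log.Steps.join g H F 19661 S52 (Log.checkBlock_sound hiv he hrel hsub _ _ _ step53)
  have S54 : Log.Steps g H F 19661 0 56320 :=
    Log.Steps.join g H F 19661 S53 (Log.checkBlock_sound hiv he hrel hsub _ _ _ step54)
  have S55 : Log.Steps g H F 19661 0 57344 :=
    Log.Steps.join g H F 19661 S54 (Log.checkBlock_sound hiv he hrel hsub _ _ _ step55)
  have S56 : Log.Steps g H F 19661 0 58368 :=
    Log.Steps.join g H F 19661 S55 (Log.checkBlock_sound hiv he hrel hsub _ _ _ step56)
  have S57 : Log.Steps g H F 19661 0 59392 :=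
    Log.Steps.join g H F 19661 S56 (Log.checkBlock_sound hiv he hrel hsub _ _ _ step57)
  have S58 : Log.Steps g H F 19661 0 60416 :=
    Log.Steps.join g H F 19661 S57 (Log.checkBlock_sound hiv he hrel hsub _ _ _ step58)
  have S59 : Log.Steps g H F 19661 0 61440 :=
    Log.Steps.join g H F 19661 S58 (Log.checkBlock_sound hiv he hrel hsub _ _ _ step59)
  have S60 : Log.Steps g H F 19661 0 62464 :=
    Log.Steps.join g H F 19661 S59 (Log.checkBlock_sound hiv he hrel hsub _ _ _ step60)
  have S61 : Log.Steps g H F 19661 0 63488 :=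
    Log.Steps.join g H F 19661 S60 (Log.checkBlock_sound hiv he hrel hsub _ _ _ step61)
  have S62 : Log.Steps g H F 19661 0 64512 :=
    Log.Steps.join g H F 19661 S61 (Log.checkBlock_sound hiv he hrel hsub _ _ _ step62)
  have S63 : Log.Steps g H F 19661 0 65536 :=
    Log.Steps.join g H F 19661 S62 (Log.checkBlock_sound hiv he hrel hsub _ _ _ step63)
  have S64 : Log.Steps g H F 19661 0 66560 :=
    Log.Steps.join g H F 19661 S63 (Log.checkBlock_sound hiv he hrel hsub _ _ _ step64)
  have S65 : Log.Steps g H F 19661 0 66804 :=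
    Log.Steps.join g H F 19661 S64 (Log.checkBlock_sound hiv he hrel hsub _ _ _ step65)
  have hF := Log.Steps.holds g H F 19661 S65
  have T0 : Log.Closed g H F 19661 17472 7 0 256 := Log.checkTable_sound hiv hF _ _ _ table0
  have T1 : Log.Closed g H F 19661 17472 7 0 512 :=
    Log.Closed.join T0 (Log.checkTable_sound hiv hF _ _ _ table1)
  have T2 : Log.Closed g H F 19661 17472 7 0 768 :=
    Log.Closed.join T1 (Log.checkTable_sound hiv hF _ _ _ table2)
  have T3 : Log.Closed g H F 19661 17472 7 0 1024 :=
    Log.Closed.join T2 (Log.checkTable_sound hiv hF _ _ _ table3)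
  have T4 : Log.Closed g H F 19661 17472 7 0 1280 :=
    Log.Closed.join T3 (Log.checkTable_sound hiv hF _ _ _ table4)
  have T5 : Log.Closed g H F 19661 17472 7 0 1536 :=
    Log.Closed.join T4 (Log.checkTable_sound hiv hF _ _ _ table5)
  have T6 : Log.Closed g H F 19661 17472 7 0 1792 :=
    Log.Closed.join T5 (Log.checkTable_sound hiv hF _ _ _ table6)
  have T7 : Log.Closed g H F 19661 17472 7 0 2048 :=
    Log.Closed.join T6 (Log.checkTable_sound hiv hF _ _ _ table7)
  have T8 : Log.Closed g H F 19661 17472 7 0 2304 :=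
    Log.Closed.join T7 (Log.checkTable_sound hiv hF _ _ _ table8)
  have T9 : Log.Closed g H F 19661 17472 7 0 2560 :=
    Log.Closed.join T8 (Log.checkTable_sound hiv hF _ _ _ table9)
  have T10 : Log.Closed g H F 19661 17472 7 0 2816 :=
    Log.Closed.join T9 (Log.checkTable_sound hiv hF _ _ _ table10)
  have T11 : Log.Closed g H F 19661 17472 7 0 3072 :=
    Log.Closed.join T10 (Log.checkTable_sound hiv hF _ _ _ table11)
  have T12 : Log.Closed g H F 19661 17472 7 0 3328 :=
    Log.Closed.join T11 (Log.checkTable_sound hiv hF _ _ _ table12)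
  have T13 : Log.Closed g H F 19661 17472 7 0 3584 :=
    Log.Closed.join T12 (Log.checkTable_sound hiv hF _ _ _ table13)
  have T14 : Log.Closed g H F 19661 17472 7 0 3840 :=
    Log.Closed.join T13 (Log.checkTable_sound hiv hF _ _ _ table14)
  have T15 : Log.Closed g H F 19661 17472 7 0 4096 :=
    Log.Closed.join T14 (Log.checkTable_sound hiv hF _ _ _ table15)
  have T16 : Log.Closed g H F 19661 17472 7 0 4352 :=
    Log.Closed.join T15 (Log.checkTable_sound hiv hF _ _ _ table16)
  have T17 : Log.Closed g H F 19661 17472 7 0 4608 :=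
    Log.Closed.join T16 (Log.checkTable_sound hiv hF _ _ _ table17)
  have T18 : Log.Closed g H F 19661 17472 7 0 4864 :=
    Log.Closed.join T17 (Log.checkTable_sound hiv hF _ _ _ table18)
  have T19 : Log.Closed g H F 19661 17472 7 0 5120 :=
    Log.Closed.join T18 (Log.checkTable_sound hiv hF _ _ _ table19)
  have T20 : Log.Closed g H F 19661 17472 7 0 5376 :=
    Log.Closed.join T19 (Log.checkTable_sound hiv hF _ _ _ table20)
  have T21 : Log.Closed g H F 19661 17472 7 0 5632 :=
    Log.Closed.join T20 (Log.checkTable_sound hiv hF _ _ _ table21)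
  have T22 : Log.Closed g H F 19661 17472 7 0 5888 :=
    Log.Closed.join T21 (Log.checkTable_sound hiv hF _ _ _ table22)
  have T23 : Log.Closed g H F 19661 17472 7 0 6144 :=
    Log.Closed.join T22 (Log.checkTable_sound hiv hF _ _ _ table23)
  have T24 : Log.Closed g H F 19661 17472 7 0 6400 :=
    Log.Closed.join T23 (Log.checkTable_sound hiv hF _ _ _ table24)
  have T25 : Log.Closed g H F 19661 17472 7 0 6656 :=
    Log.Closed.join T24 (Log.checkTable_sound hiv hF _ _ _ table25)
  have T26 : Log.Closed g H F 19661 17472 7 0 6912 :=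
    Log.Closed.join T25 (Log.checkTable_sound hiv hF _ _ _ table26)
  have T27 : Log.Closed g H F 19661 17472 7 0 7168 :=
    Log.Closed.join T26 (Log.checkTable_sound hiv hF _ _ _ table27)
  have T28 : Log.Closed g H F 19661 17472 7 0 7424 :=
    Log.Closed.join T27 (Log.checkTable_sound hiv hF _ _ _ table28)
  have T29 : Log.Closed g H F 19661 17472 7 0 7680 :=
    Log.Closed.join T28 (Log.checkTable_sound hiv hF _ _ _ table29)
  have T30 : Log.Closed g H F 19661 17472 7 0 7936 :=
    Log.Closed.join T29 (Log.checkTable_sound hiv hF _ _ _ table30)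
  have T31 : Log.Closed g H F 19661 17472 7 0 8192 :=
    Log.Closed.join T30 (Log.checkTable_sound hiv hF _ _ _ table31)
  have T32 : Log.Closed g H F 19661 17472 7 0 8448 :=
    Log.Closed.join T31 (Log.checkTable_sound hiv hF _ _ _ table32)
  have T33 : Log.Closed g H F 19661 17472 7 0 8704 :=
    Log.Closed.join T32 (Log.checkTable_sound hiv hF _ _ _ table33)
  have T34 : Log.Closed g H F 19661 17472 7 0 8960 :=
    Log.Closed.join T33 (Log.checkTable_sound hiv hF _ _ _ table34)
  have T35 : Log.Closed g H F 19661 17472 7 0 9216 :=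
    Log.Closed.join T34 (Log.checkTable_sound hiv hF _ _ _ table35)
  have T36 : Log.Closed g H F 19661 17472 7 0 9472 :=
    Log.Closed.join T35 (Log.checkTable_sound hiv hF _ _ _ table36)
  have T37 : Log.Closed g H F 19661 17472 7 0 9728 :=
    Log.Closed.join T36 (Log.checkTable_sound hiv hF _ _ _ table37)
  have T38 : Log.Closed g H F 19661 17472 7 0 9984 :=
    Log.Closed.join T37 (Log.checkTable_sound hiv hF _ _ _ table38)
  have T39 : Log.Closed g H F 19661 17472 7 0 10240 :=
    Log.Closed.join T38 (Log.checkTable_sound hiv hF _ _ _ table39)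
  have T40 : Log.Closed g H F 19661 17472 7 0 10496 :=
    Log.Closed.join T39 (Log.checkTable_sound hiv hF _ _ _ table40)
  have T41 : Log.Closed g H F 19661 17472 7 0 10752 :=
    Log.Closed.join T40 (Log.checkTable_sound hiv hF _ _ _ table41)
  have T42 : Log.Closed g H F 19661 17472 7 0 11008 :=
    Log.Closed.join T41 (Log.checkTable_sound hiv hF _ _ _ table42)
  have T43 : Log.Closed g H F 19661 17472 7 0 11264 :=
    Log.Closed.join T42 (Log.checkTable_sound hiv hF _ _ _ table43)
  have T44 : Log.Closed g H F 19661 17472 7 0 11520 :=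
    Log.Closed.join T43 (Log.checkTable_sound hiv hF _ _ _ table44)
  have T45 : Log.Closed g H F 19661 17472 7 0 11776 :=
    Log.Closed.join T44 (Log.checkTable_sound hiv hF _ _ _ table45)
  have T46 : Log.Closed g H F 19661 17472 7 0 12032 :=
    Log.Closed.join T45 (Log.checkTable_sound hiv hF _ _ _ table46)
  have T47 : Log.Closed g H F 19661 17472 7 0 12288 :=
    Log.Closed.join T46 (Log.checkTable_sound hiv hF _ _ _ table47)
  have T48 : Log.Closed g H F 19661 17472 7 0 12544 :=
    Log.Closed.join T47 (Log.checkTable_sound hiv hF _ _ _ table48)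
  have T49 : Log.Closed g H F 19661 17472 7 0 12800 :=
    Log.Closed.join T48 (Log.checkTable_sound hiv hF _ _ _ table49)
  have T50 : Log.Closed g H F 19661 17472 7 0 13056 :=
    Log.Closed.join T49 (Log.checkTable_sound hiv hF _ _ _ table50)
  have T51 : Log.Closed g H F 19661 17472 7 0 13312 :=
    Log.Closed.join T50 (Log.checkTable_sound hiv hF _ _ _ table51)
  have T52 : Log.Closed g H F 19661 17472 7 0 13568 :=
    Log.Closed.join T51 (Log.checkTable_sound hiv hF _ _ _ table52)
  have T53 : Log.Closed g H F 19661 17472 7 0 13824 :=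
    Log.Closed.join T52 (Log.checkTable_sound hiv hF _ _ _ table53)
  have T54 : Log.Closed g H F 19661 17472 7 0 14080 :=
    Log.Closed.join T53 (Log.checkTable_sound hiv hF _ _ _ table54)
  have T55 : Log.Closed g H F 19661 17472 7 0 14336 :=
    Log.Closed.join T54 (Log.checkTable_sound hiv hF _ _ _ table55)
  have T56 : Log.Closed g H F 19661 17472 7 0 14592 :=
    Log.Closed.join T55 (Log.checkTable_sound hiv hF _ _ _ table56)
  have T57 : Log.Closed g H F 19661 17472 7 0 14848 :=
    Log.Closed.join T56 (Log.checkTable_sound hiv hF _ _ _ table57)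
  have T58 : Log.Closed g H F 19661 17472 7 0 15104 :=
    Log.Closed.join T57 (Log.checkTable_sound hiv hF _ _ _ table58)
  have T59 : Log.Closed g H F 19661 17472 7 0 15360 :=
    Log.Closed.join T58 (Log.checkTable_sound hiv hF _ _ _ table59)
  have T60 : Log.Closed g H F 19661 17472 7 0 15616 :=
    Log.Closed.join T59 (Log.checkTable_sound hiv hF _ _ _ table60)
  have T61 : Log.Closed g H F 19661 17472 7 0 15872 :=
    Log.Closed.join T60 (Log.checkTable_sound hiv hF _ _ _ table61)
  have T62 : Log.Closed g H F 19661 17472 7 0 16128 :=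
    Log.Closed.join T61 (Log.checkTable_sound hiv hF _ _ _ table62)
  have T63 : Log.Closed g H F 19661 17472 7 0 16384 :=
    Log.Closed.join T62 (Log.checkTable_sound hiv hF _ _ _ table63)
  have T64 : Log.Closed g H F 19661 17472 7 0 16640 :=
    Log.Closed.join T63 (Log.checkTable_sound hiv hF _ _ _ table64)
  have T65 : Log.Closed g H F 19661 17472 7 0 16896 :=
    Log.Closed.join T64 (Log.checkTable_sound hiv hF _ _ _ table65)
  have T66 : Log.Closed g H F 19661 17472 7 0 17152 :=
    Log.Closed.join T65 (Log.checkTable_sound hiv hF _ _ _ table66)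
  have T67 : Log.Closed g H F 19661 17472 7 0 17408 :=
    Log.Closed.join T66 (Log.checkTable_sound hiv hF _ _ _ table67)
  have T68 : Log.Closed g H F 19661 17472 7 0 17472 :=
    Log.Closed.join T67 (Log.checkTable_sound hiv hF _ _ _ table68)
  refine Log.finite_and_card_le hiv (by norm_num) ?_ T68
  intro x hx
  interval_cases x <;> decide

end CfsgLib.ThCert.ABoundCert.C
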