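import Cfsg.Agent.ThCert.ABoundCert.DClaims
set_option autoImplicit false
set_option maxRecDepth 100000

/-! Checks of the edges of the table of level D. -/

namespace CfsgLib.ThCert.ABoundCert.D

open CfsgLib.CosetEnum

theorem table0 : Log.checkTable F iv 21 3 9 3 0
    0x2600002000100001100015000190001d000250001f0000000027000280002900013000170001b000230002100003000010000e0000f0000d0000b000090000700005 = true := by decide +kernel

end CfsgLib.ThCert.ABoundCert.D
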