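import Cfsg.Agent.CosetEnum.Log
set_option autoImplicit false
set_option maxRecDepth 100000

/-! Claims of the log of level B. -/

namespace CfsgLib.ThCert.ABoundCert.B

def C0 : ℕ := 0x1500015001b0001b001520015001b2001b00212001c00221001e00230002000203002200233001f001310013002100021002320023002020020001c0001c001910019001410014001600016001000010000f1000f000e1000e000a1000a000b1000800071000500190001d00220001f001e0001a001400018000f2000b001e3001a00122000d001510011001b1001700211001d001c10018001610012002340020001f4001a00194001400224001e001d4001800214001c001620016001020010000d1000d000910009000610006000800008000500005000200002000300003000820008000520005000100001000f00012000a0000c000b0000d001300017000e00011000700009000620006001320017000e20011000420004000210002000110001000120001000d3000d000b3000b00064000600083000800044000400034000300024000200003000000002000000001000000000000000231001f00222001d00213001b00201001a001f20019001e20018001d30017001c30016001b40015001a2001400193001300183001200174001100164001000153001000143000f00134000e00124000c00113000c00101000c000f4000a000e3000a000d40009000c20009000b40007000a20007000930006000840005000730004000600004000530003000410003000320002000230001000140000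

/-- The block of claims. -/
def blk (_b : ℕ) : ℕ :=
  C0

/-- The claims. -/
noncomputable def F : ℕ → ℕ := CosetEnum.Log.claim blk

/-- Relators, then subgroup words. -/
def words : List (List ℕ) :=
  [[0, 0],
   [1, 1],
   [2, 2],
   [3, 3],
   [4, 4],
   [0, 1, 0, 1, 0, 1],
   [0, 4, 0, 4],
   [1, 2, 1, 2, 1, 2],
   [1, 3, 1, 3],
   [1, 4, 1, 4],
   [0, 3, 2, 3, 2, 3, 2, 3, 2],
   [2, 4, 2, 4],
   [3, 4, 3, 4, 3, 4],
   [1, 2, 3, 4, 1, 2, 3, 4, 1, 2, 3, 4, 1, 2, 3, 4, 1, 2, 3, 4, 1, 2, 3, 4, 1, 2, 3, 4, 1, 2, 3, 4],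
   [5, 5, 5, 5, 5, 5, 5],
   [6, 0, 5, 0],
   [6, 1, 5, 1],
   [6, 2, 5, 2],
   [5, 3, 5, 3],
   [4, 6, 4, 5, 6, 6, 6, 4, 5, 5, 5],
   [7, 7, 7],
   [8, 0, 7, 0],
   [8, 1, 7, 1],
   [8, 2, 7, 2],
   [8, 3, 7, 3],
   [8, 4, 7, 4],
   [8, 5, 7, 6, 6],
   [0, 0],
   [1, 1],
   [2, 2],
   [3, 3],
   [4, 4],
   [5, 6],
   [6, 5],
   [7, 8],
   [8, 7],
   [],
   [0],
   [1],
   [2],
   [3]]

/-- The word of an index. -/
def wd (r : ℕ) : List ℕ := words.getD r []

/-- The inverse letter. -/
def iv (x : ℕ) : ℕ := bif Nat.beq x 5 then 6 else bif Nat.beq x 6 then 5 else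
    bif Nat.beq x 7 then 8 else bif Nat.beq x 8 then 7 else x

end CfsgLib.ThCert.ABoundCert.B
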