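import Cfsg.Agent.ThCert.ABoundCert.BClaims
set_option autoImplicit false
set_option maxRecDepth 100000

/-! Checks of the entries of the log of level B. -/

namespace CfsgLib.ThCert.ABoundCert.B

open CfsgLib.CosetEnum

theorem step0 : Log.checkBlock F iv 9 wd 37 41 36 112 0
    0x3500034000dd00006c1086000d900040000d7000370008d00036000d60004100006c800a0003500034000d900006c108b000d7000370008d00036000d60004100040000cb000084608a000430009e0009d0003a000d400008820c700045000ae000ad0003e000d200008c20c5000c7000d1000430003900066000300003c000ce000080800a0009900093000a700096000ce00008c110c0009500027000a9000b50000f0000900005000610004f000030005d0005f000010004d0004b0004900000000020000400006000530000c00012000b70001c00026000320003e000980003d000c3000065d08d0003100030000c300006410880008e0008f000c500007010860009800099000c7000080108b000320003e0003f00033000c100005020c70009c0009d000aa000c1000ab00006011050009400095000c100005010890002600027000bb00003c10880002a0002b000bd00004010860001e0001f00072000b70007300003011050001c0001d000b700002810890001a0001b000b700002810880001200013000b300079000b200001c1107000140000f000b200001c108900009000060000c00001430080009400091000aa00005010860009200097000ac00007810860003300027000a900059000a80002600032000a6000068800a0003a000a70003300027000a900059000a800026000060800a000a40002e0003a000a700033000270005900071000034608a000a50005b000a40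002e0003a00033000270007500004850ca000190001600022000034300b000350002c000a000006c108900041000380009e00008410880008e000910009c0000701089000360002f0009a0000581088000230001e0002a00004830090003f000960004400008c00c900033000940003c00007c00cb000270001d0001a0002400030000064014c0003b000900004200008800cb0002f00023000200002c00038000074014c000370002b000280003400040000084014c0002a0002b0008b000040108b000160001e0001f000170008700002420c700018000190008700002410890001000011000850000181088000060000a0000b000070007d00000c20c50000e0000f000810000141086000790000900005000030005d000020000400008000014800a0000400008000790000900005000030005d00002000008800a00005000030005d000020000400008000790000900000c800a0000e0000f00079000014108b0005d00002000040000800009000050000300077000004410a00000000010004700000010860001c00023000720000281086000170001100069000100001600020000640001b000030800a00014000190006a00001c1086000240002d0006c0000381086000640001b000130000d000630000c000120001a000044800a0001600020000640001b000130000d000630000c000024800a000100001600020000640001b000130000d0000a000018020a000240002d00064000038108b000630000c000120001a0002100017000110000b000010410a000040000600007000050006100000820c700002000030005f0000041088000000000100049000000108900000000010004b000000108b0001800019000110005700010000024110c00014000150000d000530000c00001c110c0000b000530000a00001800c60000e0000f000090005100008000014110c00007000510000600001000c9000050004f0000400000c00cb000000000200003000010004d00000020cc00000000280000000027000000002600000000253f3f3f3f3f3f3f3f3f3f3f3f3f3f3f3f3f3f3f3f3f3f3f3f3f3f3f3f3f3f3f3f3f3f3f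 = true := by decide +kernel

end CfsgLib.ThCert.ABoundCert.B
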