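import Cfsg.Agent.CosetEnum.Log
set_option autoImplicit false
set_option maxRecDepth 100000

/-! Claims of the log of level D. -/

namespace CfsgLib.ThCert.ABoundCert.D

def C0 : ℕ := 0x150001000270001000210002000110001000100001000200002000220002000120001000230002000130001000240002000140001000250002000050000000040000000030000000020000000010000000000000000280000000170000

/-- The block of claims. -/
def blk (_b : ℕ) : ℕ :=
  C0

/-- The claims. -/
noncomputable def F : ℕ → ℕ := CosetEnum.Log.claim blk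

/-- Relators, then subgroup words. -/
def words : List (List ℕ) :=
  [[0, 0],
   [1, 1],
   [2, 2],
   [3, 3],
   [4, 4],
   [0, 1, 0, 1, 0, 1],
   [0, 4, 0, 4],
   [1, 2, 1, 2, 1, 2],
   [1, 3, 1, 3],
   [1, 4, 1, 4],
   [0, 3, 2, 3, 2, 3, 2, 3, 2],
   [2, 4, 2, 4],
   [3, 4, 3, 4, 3, 4],
   [1, 2, 3, 4, 1, 2, 3, 4, 1, 2, 3, 4, 1, 2, 3, 4, 1, 2, 3, 4, 1, 2, 3, 4, 1, 2, 3, 4, 1, 2, 3, 4],
   [5, 5, 5, 5, 5, 5, 5],
   [6, 0, 5, 0],
   [6, 1, 5, 1],
   [6, 2, 5, 2],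
   [5, 3, 5, 3],
   [4, 6, 4, 5, 6, 6, 6, 4, 5, 5, 5],
   [7, 7, 7],
   [8, 0, 7, 0],
   [8, 1, 7, 1],
   [8, 2, 7, 2],
   [8, 3, 7, 3],
   [8, 4, 7, 4],
   [8, 5, 7, 6, 6],
   [0, 0],
   [1, 1],
   [2, 2],
   [3, 3],
   [4, 4],
   [5, 6],
   [6, 5],
   [7, 8],
   [8, 7],
   [],
   [0],
   [1],
   [2],
   [3],
   [4],
   [5]]

/-- The word of an index. -/
def wd (r : ℕ) : List ℕ := words.getD r []

/-- The inverse letter. -/
def iv (x : ℕ) : ℕ := bif Nat.beq x 5 then 6 else bif Nat.beq x 6 then 5 else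
    bif Nat.beq x 7 then 8 else bif Nat.beq x 8 then 7 else x

end CfsgLib.ThCert.ABoundCert.D
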