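import Cfsg.Agent.ThCert.ABoundCert.DClaims
set_option autoImplicit false
set_option maxRecDepth 100000

/-! Checks of the entries of the log of level D. -/

namespace CfsgLib.ThCert.ABoundCert.D

open CfsgLib.CosetEnum

theorem step0 : Log.checkBlock F iv 9 wd 37 43 3 21 0
    0x10000100002700026000008305a00001000020000080094000070000200003000000205600001000070000000000400d60001b000170001b000170001b000170001b00017000004800a0001d000190001d000190001d000190001d00019000008800a000090000200003000000205700001000090000000000400d70000b00002000030000002058000010000b0000000000400d80000d00002000030000002059000010000d0000000000400d90000e0000e0000200003000000305a000000002a000000002900000000280000000027000000002600000000253f3f = true := by decide +kernel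

end CfsgLib.ThCert.ABoundCert.D
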